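import Groth.Agent.Sga4B.DimBC
import Groth.Agent.Desc.DimMap
import Mathlib.AlgebraicGeometry.Properties
import Mathlib.AlgebraicGeometry.Morphisms.FlatMono
import Mathlib.AlgebraicGeometry.Morphisms.UniversallyOpen

/-!
# The dimension of an algebraic scheme is invariant under extension of the base field
-/

set_option autoImplicit false
set_option linter.unusedVariables false
universe u
open CategoryTheory CategoryTheory.Limits AlgebraicGeometry

namespace K285.DimField

/-- Base change between one-point integral schemes does not change the dimension of a scheme locally of finite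
type. -/
theorem topologicalKrullDim_eq {Y Y' T T' : Scheme.{u}} (g : Y ⟶ T) (g' : Y' ⟶ T') (e : Y' ⟶ Y)
    (h : T' ⟶ T) [IsIntegral T] [Subsingleton T] [IsIntegral T'] [Subsingleton T']
    [LocallyOfFiniteType g] (hpb : IsPullback e g' g h) :
    topologicalKrullDim Y' = topologicalKrullDim Y := by
  apply le_antisymm
  · have hT : IsField Γ(T, ⊤) := isField_of_isIntegral_of_subsingleton T
    have hT' : IsField Γ(T', ⊤) := isField_of_isIntegral_of_subsingleton T'
    have h1 : IsPullback e (g' ≫ T'.isoSpec.hom) (g ≫ T.isoSpec.hom)
        (T'.isoSpec.inv ≫ h ≫ T.isoSpec.hom) := by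
      refine IsPullback.of_iso hpb (Iso.refl _) (Iso.refl _) T'.isoSpec T.isoSpec ?_ ?_ ?_ ?_
      · simp
      · simp
      · simp
      · simp
    exact Groth.Agent.Sga4B.DimBC.topologicalKrullDim_baseChange_le hT hT' (g ≫ T.isoSpec.hom)
      (T'.isoSpec.inv ≫ h ≫ T.isoSpec.hom) e (g' ≫ T'.isoSpec.hom) h1
  · have : Surjective e := MorphismProperty.of_isPullback hpb.flip (inferInstance : Surjective h)
    have : Flat e := MorphismProperty.of_isPullback hpb.flip (inferInstance : Flat h)
    exact Groth.Agent.Desc.DimMap.topologicalKrullDim_le_of_generalizingMap e e.continuous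
      (Flat.generalizingMap e) e.surjective

end K285.DimField
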