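import Groth.Agent.Ega43.Locus
import Groth.Agent.Ega43.LocusAff
import Groth.Agent.S3401
import Groth.Agent.S3402
import Groth.Agent.S3403
import Groth.Prelude.Def_EGA4Misc

/-!
# Elementary facts on (ind-)constructible properties of algebraic schemes

* `interior_nonempty_of_mem`: an ind-constructible subset of an integral scheme containing the generic point has
  nonempty interior;
* `isCons_of_fpqcInv`, `isConsMor_of_fpqcInv`: a morphism property which is invariant under faithfully flat
  quasi-compact base change and whose fibrewise loci are locally constructible gives constructible properties.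
-/

set_option autoImplicit false
set_option linter.unusedVariables false
universe u
open CategoryTheory AlgebraicGeometry CategoryTheory.Limits Topology

namespace K285.Elem

open Groth.Agent.Ega43.Locus Groth.Agent.Ega43.LocusAff

section Topo

/-- In an irreducible scheme, an ind-constructible subset containing the generic point is a neighbourhood of it. -/
theorem genericPoint_mem_interior {S : Scheme.{u}} [IrreducibleSpace S] {E : Set S}
    (hE : ProCons.IsIndConstructible E) (h : genericPoint S ∈ E) : genericPoint S ∈ interior E := by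
  rw [Groth.Agent.S3403.result S E hE]
  intro x' hx'
  have h1 : genericPoint S ⤳ x' := genericPoint_specializes x'
  rwa [(hx'.antisymm h1).eq]

theorem interior_nonempty_of_mem {S : Scheme.{u}} [IrreducibleSpace S] {E : Set S}
    (hE : ProCons.IsIndConstructible E) (h : genericPoint S ∈ E) : (interior E).Nonempty :=
  ⟨_, genericPoint_mem_interior hE h⟩

theorem mem_interior_or {S : Scheme.{u}} [IrreducibleSpace S] {E : Set S}
    (hE : IsLocallyConstructible E) :
    genericPoint S ∈ interior E ∨ genericPoint S ∈ interior Eᶜ := by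
  by_cases h : genericPoint S ∈ E
  · exact Or.inl (genericPoint_mem_interior ((Groth.Agent.S3402.result S E).1 hE).1 h)
  · refine Or.inr (genericPoint_mem_interior ((Groth.Agent.S3402.result S Eᶜ).1 ?_).1 h)
    intro x
    obtain ⟨U, hU, hU', hs'⟩ := hE x
    exact ⟨U, hU, hU', hs'.compl⟩

theorem interior_nonempty_or {S : Scheme.{u}} [IrreducibleSpace S] {E : Set S}
    (hE : IsLocallyConstructible E) : (interior E).Nonempty ∨ (interior Eᶜ).Nonempty :=
  (mem_interior_or hE).imp (fun h => ⟨_, h⟩) fun h => ⟨_, h⟩

end Topo

section Stable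

variable {P : MorphismProperty Scheme.{u}}

theorem isFieldStable_of_fpqcInv (hP : FpqcInv P) :
    ConsProp.IsFieldStable (fun Y T g => P g) := by
  intro Y Y' T T' g g' e h _ _ _ _ _ _ hpb
  exact (hP.iff_of_isPullback hpb inferInstance inferInstance inferInstance).symm

theorem isFieldStableMor_of_fpqcInv (hP : FpqcInv P) :
    ConsProp.IsFieldStableMor (fun X Y T f g => P f) := by
  intro X X' Y Y' T T' f g f' g' eX eY h _ _ _ _ _ _ _ _ hY hX
  have h1 : Surjective h := inferInstance
  have h2 : Flat h := inferInstance
  have h3 : QuasiCompact h := inferInstance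
  exact (hP.iff_of_isPullback hX (MorphismProperty.of_isPullback hY.flip h1)
    (MorphismProperty.of_isPullback hY.flip h2) (MorphismProperty.of_isPullback hY.flip h3)).symm

theorem locusMor_eq {X Y S : Scheme.{u}} (f : X ⟶ Y) (g : Y ⟶ S) :
    ConsProp.locusMor (fun X Y T f g => P f) f g = locus P f g := rfl

theorem locus_eq (hP : P.RespectsIso) {X S : Scheme.{u}} (f : X ⟶ S) :
    ConsProp.locus (fun Y T g => P g) f = locus P f (𝟙 S) := by
  ext s
  have h1 : IsPullback (S.fromSpecResidueField s) (𝟙 _) (𝟙 S) (S.fromSpecResidueField s) :=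
    IsPullback.of_vert_isIso ⟨by simp⟩
  have h2 : IsPullback (f.fiberι s) (f.fiberToSpecResidueField s) f (S.fromSpecResidueField s) :=
    IsPullback.of_hasPullback _ _
  exact (mem_locus_iff_of_isPullback h1 h2).symm

/-- Morphisms of finite type over a Noetherian scheme are of finite presentation. -/
theorem fp_of_isLocallyNoetherian {X S : Scheme.{u}} (f : X ⟶ S) [IsLocallyNoetherian S]
    [LocallyOfFiniteType f] [QuasiCompact f] : FP f := by
  have : LocallyOfFinitePresentation f :=
    LocallyOfFinitePresentation.iff_locallyOfFiniteType.2 inferInstance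
  have : IsLocallyNoetherian X := LocallyOfFiniteType.isLocallyNoetherian f
  exact ⟨inferInstance, inferInstance, inferInstance⟩

theorem isCons_of_fpqcInv (hP : FpqcInv P)
    (H : ∀ {X Y S : Scheme.{u}} (f : X ⟶ Y) (g : Y ⟶ S), FP g → FP (f ≫ g) →
      IsLocallyConstructible (locus P f g)) :
    ConsProp.IsCons (fun Y T g => P g) := by
  refine ⟨isFieldStable_of_fpqcInv hP, ?_⟩
  intro X S u _ _ _ _
  rw [locus_eq hP.respectsIso]
  have h1 : FP (𝟙 S) := ⟨inferInstance, inferInstance, inferInstance⟩
  have h2 : FP (u ≫ 𝟙 S) := by rw [Category.comp_id]; exact fp_of_isLocallyNoetherian u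
  exact interior_nonempty_or (H u (𝟙 S) h1 h2)

theorem isConsMor_of_fpqcInv (hP : FpqcInv P)
    (H : ∀ {X Y S : Scheme.{u}} (f : X ⟶ Y) (g : Y ⟶ S), FP g → FP (f ≫ g) →
      IsLocallyConstructible (locus P f g)) :
    ConsProp.IsConsMor (fun X Y T f g => P f) := by
  refine ⟨isFieldStableMor_of_fpqcInv hP, ?_⟩
  intro X Y S f g _ _ _ _ _ _
  exact interior_nonempty_or (H f g (fp_of_isLocallyNoetherian g) (fp_of_isLocallyNoetherian (f ≫ g)))

end Stable

end K285.Elem
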