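import Groth.Agent.Ega43.LimBC
import Groth.Agent.S3398
import Groth.Agent.S3439
import Groth.Agent.S3402
import Groth.Prelude.Def_ProCons

/-!
# Images of the stages of a cofiltered limit with affine transition maps
-/

set_option autoImplicit false
set_option linter.unusedVariables false
set_option backward.isDefEq.respectTransparency false
set_option backward.defeqAttrib.useBackward true
universe u
open CategoryTheory AlgebraicGeometry CategoryTheory.Limits Topology

namespace K285.Lim

open Groth.Agent.Ega43.LimBC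

variable {I : Type u} [SmallCategory I] [IsCofiltered I] (D : I ⥤ Scheme.{u}) (c : Cone D)
  (hc : IsLimit c) [∀ (i j : I) (a : i ⟶ j), IsAffineHom (D.map a)] (i₀ : I)

include hc in
/-- A point in the image of all stages is in the image of the limit. -/
theorem iInter_range_subset :
    ⋂ j : Over i₀, Set.range (D.map j.hom) ⊆ Set.range (c.π.app i₀) := by
  intro x hx
  rw [Set.mem_iInter] at hx
  let k := (D.obj i₀).fromSpecResidueField x
  have h1 : ∀ {i j : Over i₀} (f : i ⟶ j), IsAffineHom ((bcDiagram D i₀ k).map f) :=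
    fun f => isAffineHom_bcDiagram_map D i₀ k f
  have hT : ∀ j : Over i₀, IsAffineHom (D.map j.hom) := fun j => inferInstance
  have h2 : ∀ j : Over i₀, CompactSpace ((bcDiagram D i₀ k).obj j) := by
    intro j
    have h3 : IsAffineHom (pullback.fst k (D.map j.hom)) :=
      MorphismProperty.pullback_fst _ _ (hT j)
    have h4 : IsAffine (pullback k (D.map j.hom)) := isAffine_of_isAffineHom (pullback.fst k (D.map j.hom))
    change CompactSpace (pullback k (D.map j.hom) : Scheme.{u})
    infer_instance
  have h3 : ∀ j : Over i₀, Nonempty ((bcDiagram D i₀ k).obj j) := by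
    intro j
    obtain ⟨y, hy⟩ := hx j
    have h5 : y ∈ Set.range (pullback.snd k (D.map j.hom)) := by
      rw [Scheme.Pullback.range_snd, Scheme.range_fromSpecResidueField]
      exact hy
    obtain ⟨z, -⟩ := h5
    exact ⟨z⟩
  have h4 : Nonempty (bcCone D c i₀ k).pt :=
    Scheme.nonempty_of_isLimit (bcDiagram D i₀ k) (bcCone D c i₀ k) (isLimitBcCone D c i₀ k hc)
  obtain ⟨z⟩ := h4
  have h5 : pullback.snd k (c.π.app i₀) z ∈ Set.range (pullback.snd k (c.π.app i₀)) := ⟨z, rfl⟩
  rw [Scheme.Pullback.range_snd, Scheme.range_fromSpecResidueField] at h5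
  exact ⟨_, h5⟩

include hc in
/-- If an ind-constructible subset of a quasi-compact stage contains the image of the limit then it contains the image
of some later stage. -/
theorem exists_range_subset [CompactSpace (D.obj i₀)] {E : Set (D.obj i₀)}
    (hE : ProCons.IsIndConstructible E) (h : Set.range (c.π.app i₀) ⊆ E) :
    ∃ (j : I) (φ : j ⟶ i₀), Set.range (D.map φ) ⊆ E := by
  classical
  obtain ⟨J, hJ⟩ := Groth.Agent.S3439.result (D.obj i₀) E hE
    (fun j : Over i₀ => Set.range (D.map j.hom)) (fun j => by
      have h1 : ProCons.IsProConstructible (Set.univ : Set (D.obj j.left)) :=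
        ((Groth.Agent.S3402.result _ _).1 (by simp)).2
      have h2 := Groth.Agent.S3398.result (D.map j.hom) _ h1
      rw [Set.image_univ] at h2
      exact h2) ((iInter_range_subset D c hc i₀).trans h)
  obtain ⟨l, hl⟩ := IsCofiltered.inf_objs_exists J
  refine ⟨l.left, l.hom, subset_trans ?_ hJ⟩
  rintro _ ⟨y, rfl⟩
  rw [Set.mem_iInter₂]
  intro j hj
  obtain ⟨a⟩ := hl hj
  refine ⟨D.map a.left y, ?_⟩
  rw [← Scheme.Hom.comp_apply, ← D.map_comp, Over.w a]

include hc in
theorem range_subset_iff [CompactSpace (D.obj i₀)] {E : Set (D.obj i₀)}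
    (hE : ProCons.IsIndConstructible E) :
    Set.range (c.π.app i₀) ⊆ E ↔ ∃ (j : I) (φ : j ⟶ i₀), Set.range (D.map φ) ⊆ E := by
  refine ⟨exists_range_subset D c hc i₀ hE, ?_⟩
  rintro ⟨j, φ, h⟩
  refine subset_trans ?_ h
  rintro _ ⟨y, rfl⟩
  exact ⟨c.π.app j y, by rw [← Scheme.Hom.comp_apply, c.w]; rfl⟩

end K285.Lim
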