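import Groth.Agent.S3401
import Groth.Agent.S3402
import Groth.Agent.Ega4fib.H119.ProIndScheme
import Groth.Agent.Ega4fib.H121.ProConsScheme
import Mathlib.AlgebraicGeometry.Morphisms.ClosedImmersion
import Mathlib.AlgebraicGeometry.Noetherian

/-!
# Topological criteria for (ind-)constructibility, by Noetherian approximation
-/

set_option autoImplicit false
set_option linter.unusedVariables false
universe u
open CategoryTheory AlgebraicGeometry CategoryTheory.Limits Topology

namespace K285.Topo

/-- The image of the generic point under a closed immersion with irreducible source. -/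
theorem isInd_of_noetherian {A : CommRingCat.{u}} [IsNoetherianRing A] (E : Set (Spec A))
    (H : ∀ (T : Scheme.{u}) (i : T ⟶ Spec A) [IsClosedImmersion i] [IsIntegral T] [IsNoetherian T],
      genericPoint T ∈ i ⁻¹' E → (interior (i ⁻¹' E)).Nonempty) :
    ProCons.IsIndConstructible E := by
  rw [Groth.Agent.S3401.result (Spec A) E]
  intro x hx
  let q : PrimeSpectrum A := x
  let i : Spec (.of (A ⧸ q.asIdeal)) ⟶ Spec A :=
    Spec.map (CommRingCat.ofHom (Ideal.Quotient.mk q.asIdeal))
  have hi : IsClosedImmersion i := IsClosedImmersion.spec_of_surjective _ Ideal.Quotient.mk_surjective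
  have h1 : IsNoetherianRing (A ⧸ q.asIdeal) := inferInstance
  have h2 : IsIntegral (Spec (.of (A ⧸ q.asIdeal))) := inferInstance
  have h3 : IsNoetherian (Spec (.of (A ⧸ q.asIdeal))) := inferInstance
  have hr : Set.range i = closure {x} := by
    have h4 : Set.range i = PrimeSpectrum.zeroLocus (q.asIdeal : Set A) := by
      refine Eq.trans (b := Set.range (PrimeSpectrum.comap (Ideal.Quotient.mk q.asIdeal))) rfl ?_
      rw [range_comap_of_surjective _ _ Ideal.Quotient.mk_surjective, Ideal.mk_ker]
    rw [h4]
    exact (PrimeSpectrum.closure_singleton q).symm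
  have hgp : i (genericPoint (Spec (.of (A ⧸ q.asIdeal)))) = x := by
    have h5 : IsGenericPoint (i (genericPoint (Spec (.of (A ⧸ q.asIdeal))))) (Set.range i) := by
      have h6 := (genericPoint_spec (Spec (.of (A ⧸ q.asIdeal)))).image i.continuous
      rwa [Set.image_univ, hi.isClosedEmbedding.isClosed_range.closure_eq] at h6
    have h7 : IsGenericPoint x (Set.range i) := hr.symm
    exact h5.eq h7
  obtain ⟨y, hy⟩ := H _ i (show i _ ∈ E by rw [hgp]; exact hx)
  obtain ⟨W, hW, hWi⟩ := (hi.isClosedEmbedding.isInducing.isOpen_iff).1 (isOpen_interior (s := i ⁻¹' E))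
  have hxW : x ∈ W := by
    have h8 : genericPoint (Spec (.of (A ⧸ q.asIdeal))) ∈ interior (i ⁻¹' E) :=
      (genericPoint_specializes y).mem_open isOpen_interior hy
    rw [← hWi] at h8
    have h9 : i (genericPoint (Spec (.of (A ⧸ q.asIdeal)))) ∈ W := h8
    rwa [hgp] at h9
  refine Filter.mem_of_superset ((hW.preimage continuous_subtype_val).mem_nhds (by exact hxW)) ?_
  rintro ⟨z, hz⟩ hzW
  rw [← hr] at hz
  obtain ⟨w, rfl⟩ := hz
  have h10 : w ∈ i ⁻¹' W := hzW
  rw [hWi] at h10
  have h11 : w ∈ i ⁻¹' E := interior_subset h10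
  exact h11

/-- Ind-constructibility can be checked on affine opens, as the preimage of an ind-constructible set. -/
theorem isInd_of_approx {S : Scheme.{u}} (E : Set S)
    (H : ∀ (A : CommRingCat.{u}) (j : Spec A ⟶ S) [IsOpenImmersion j],
      ∃ (T : Scheme.{u}) (t : Spec A ⟶ T) (E₀ : Set T), j ⁻¹' E = t ⁻¹' E₀ ∧
        ProCons.IsIndConstructible E₀) :
    ProCons.IsIndConstructible E := by
  refine Groth.Agent.Ega4fib.H121.ProConsScheme.isIndConstructible_of_openCover S.affineCover fun i => ?_
  have hj : IsOpenImmersion (S.affineCover.f i) := inferInstance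
  obtain ⟨T, t, E₀, h1, h2⟩ := @H _ (S.affineCover.f i) hj
  have h3 := Groth.Agent.Ega4fib.H119.ProIndScheme.isInd_preimage t h2
  rw [← h1] at h3
  exact h3

theorem isLocallyConstructible_of_isInd {S : Scheme.{u}} {E : Set S}
    (h1 : ProCons.IsIndConstructible E) (h2 : ProCons.IsIndConstructible Eᶜ) :
    IsLocallyConstructible E :=
  (Groth.Agent.S3402.result S E).2 ⟨h1,
    Groth.Agent.Ega4fib.H121.ProConsBasic.isIndConstructible_compl_iff.1 h2⟩

/-- If `E` contains the generic point, and `E` or its complement contains a nonempty open subset, then `E` contains a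
nonempty open subset. -/
theorem interior_nonempty_of_or {S : Scheme.{u}} [IrreducibleSpace S] {E : Set S}
    (h : (interior E).Nonempty ∨ (interior Eᶜ).Nonempty) (hE : genericPoint S ∈ E) :
    (interior E).Nonempty := by
  rcases h with h | ⟨y, hy⟩
  · exact h
  · have h8 : genericPoint S ∈ interior Eᶜ :=
      (genericPoint_specializes y).mem_open isOpen_interior hy
    exact absurd hE (interior_subset h8)

end K285.Topo
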