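import Groth.Agent.ConsProp.K285.Elem
import Groth.Agent.ConsProp.K285.Topo
import Groth.Agent.Models2.FPCoh
import Groth.Agent.FormalA.PullbackQC
import Groth.Agent.PerfB.ApproxMdl
import Groth.Prelude.Def_EGA4Misc

/-!
# (Ind-)constructible properties of schemes with a module: base change and the main theorem
-/

set_option autoImplicit false
set_option linter.unusedVariables false
universe u
open CategoryTheory AlgebraicGeometry CategoryTheory.Limits Topology

namespace K285.ModP

open Groth.Agent.Models2.FPCoh Groth.Agent.FormalA.PullbackQC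

variable {P : ∀ ⦃Y T : Scheme.{u}⦄, (Y ⟶ T) → Y.Modules → Prop}

/-- Two ways around a commutative square. -/
noncomputable def sqIso {A B C D : Scheme.{u}} (a : A ⟶ B) (b : B ⟶ D) (c : A ⟶ C) (d : C ⟶ D)
    (h : a ≫ b = c ≫ d) (F : D.Modules) :
    (Scheme.Modules.pullback a).obj ((Scheme.Modules.pullback b).obj F) ≅
      (Scheme.Modules.pullback c).obj ((Scheme.Modules.pullback d).obj F) :=
  (Scheme.Modules.pullbackComp a b).app F ≪≫ (Scheme.Modules.pullbackCongr h).app F ≪≫
    ((Scheme.Modules.pullbackComp c d).app F).symm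

/-- Invariance under isomorphisms of the module. -/
theorem iff_of_iso (hP : ConsProp.IsFieldStableMod P) {Y T : Scheme.{u}} (g : Y ⟶ T)
    [IsIntegral T] [Subsingleton T] [LocallyOfFiniteType g] [QuasiCompact g] {F F' : Y.Modules}
    (hF : Coh.IsCoh F) (e : F' ≅ F) : P g F ↔ P g F' :=
  hP g g (𝟙 Y) (𝟙 T) (IsPullback.of_horiz_isIso ⟨by simp⟩) F F' hF
    (e ≪≫ ((Scheme.Modules.pullbackId Y).app F).symm)

/-- The locus of a base change is the preimage of the locus. -/
theorem locusMod_eq_preimage (hP : ConsProp.IsFieldStableMod P) {X S X' T : Scheme.{u}}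
    {u : X ⟶ S} [LocallyOfFiniteType u] [QuasiCompact u] {v : X' ⟶ T} {t : T ⟶ S} {q : X' ⟶ X}
    (h : IsPullback q v u t) {F : X.Modules} (hF : Coh.IsCoh F) {F' : X'.Modules}
    (e : F' ≅ (Scheme.Modules.pullback q).obj F) :
    ConsProp.locusMod P v F' = t ⁻¹' (ConsProp.locusMod P u F) := by
  ext x
  let k := S.fromSpecResidueField (t x)
  have h1 : IsPullback (v.fiberι x ≫ q) (v.fiberToSpecResidueField x) u
      (Spec.map (t.residueFieldMap x) ≫ k) := by
    rw [Scheme.Hom.SpecMap_residueFieldMap_fromSpecResidueField]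
    exact (IsPullback.of_hasPullback v (T.fromSpecResidueField x)).paste_horiz h
  let w : v.fiber x ⟶ u.fiber (t x) := pullback.lift (v.fiberι x ≫ q)
    (v.fiberToSpecResidueField x ≫ Spec.map (t.residueFieldMap x)) (by rw [h1.w, Category.assoc])
  have hw1 : w ≫ u.fiberι (t x) = v.fiberι x ≫ q := pullback.lift_fst _ _ _
  have hw2 : w ≫ u.fiberToSpecResidueField (t x) =
      v.fiberToSpecResidueField x ≫ Spec.map (t.residueFieldMap x) := pullback.lift_snd _ _ _
  have h2 : IsPullback w (v.fiberToSpecResidueField x) (u.fiberToSpecResidueField (t x))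
      (Spec.map (t.residueFieldMap x)) := by
    refine IsPullback.of_right (h₁₂ := u.fiberι (t x)) (h₂₂ := k) (v₁₃ := u) ?_ hw2
      (IsPullback.of_hasPullback u k)
    rw [hw1]
    exact h1
  have i1 : LocallyOfFiniteType (u.fiberToSpecResidueField (t x)) :=
    inferInstanceAs (LocallyOfFiniteType (pullback.snd u k))
  have i2 : QuasiCompact (u.fiberToSpecResidueField (t x)) :=
    inferInstanceAs (QuasiCompact (pullback.snd u k))
  exact (hP (u.fiberToSpecResidueField (t x)) (v.fiberToSpecResidueField x) w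
    (Spec.map (t.residueFieldMap x)) h2 ((Scheme.Modules.pullback (u.fiberι (t x))).obj F)
    ((Scheme.Modules.pullback (v.fiberι x)).obj F') (isCoh_pullback _ _ hF)
    ((Scheme.Modules.pullback (v.fiberι x)).mapIso e ≪≫
      sqIso (v.fiberι x) q w (u.fiberι (t x)) hw1.symm F)).symm

theorem isFieldStableMod_not (hP : ConsProp.IsFieldStableMod P) :
    ConsProp.IsFieldStableMod (fun Y T g F => ¬ P g F) :=
  fun Y Y' T T' g g' e h _ _ _ _ _ _ hpb F F' hF i => not_congr (hP g g' e h hpb F F' hF i)

theorem isIndConsMod (hP : ConsProp.IsConsMod P) : ConsProp.IsIndConsMod P :=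
  ⟨hP.1, fun X S u _ _ _ _ F hF h => Topo.interior_nonempty_of_or (hP.2 u F hF) h⟩

theorem isIndConsMod_not (hP : ConsProp.IsConsMod P) :
    ConsProp.IsIndConsMod (fun Y T g F => ¬ P g F) :=
  ⟨isFieldStableMod_not hP.1, fun X S u _ _ _ _ F hF h =>
    Topo.interior_nonempty_of_or (E := (ConsProp.locusMod P u F)ᶜ)
      (by rw [compl_compl]; exact (hP.2 u F hF).symm) h⟩

/-- Over a Noetherian affine base. -/
theorem isInd_of_noetherian (hP : ConsProp.IsIndConsMod P) {A : CommRingCat.{u}} [IsNoetherianRing A]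
    {X : Scheme.{u}} (u : X ⟶ Spec A) [LocallyOfFiniteType u] [QuasiCompact u] {F : X.Modules}
    (hF : Coh.IsCoh F) : ProCons.IsIndConstructible (ConsProp.locusMod P u F) := by
  refine Topo.isInd_of_noetherian _ fun T i _ _ _ hgp => ?_
  have h1 := locusMod_eq_preimage hP.1 (IsPullback.of_hasPullback u i) hF (Iso.refl _)
  rw [← h1] at hgp ⊢
  exact hP.2 _ _ (isCoh_pullback _ _ hF) hgp

/-- The locus of an ind-constructible property is ind-constructible. -/
theorem isInd_locusMod (hP : ConsProp.IsIndConsMod P) {X S : Scheme.{u}} (u : X ⟶ S)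
    [LocallyOfFinitePresentation u] [QuasiCompact u] [QuasiSeparated u] {F : X.Modules}
    (hF : CohB1.IsFP F) : ProCons.IsIndConstructible (ConsProp.locusMod P u F) := by
  refine Topo.isInd_of_approx _ fun A j _ => ?_
  have h1 := locusMod_eq_preimage hP.1 (IsPullback.of_hasPullback u j) (isCoh_of_isFP hF) (Iso.refl _)
  have hFj : CohB1.IsFP ((Scheme.Modules.pullback (pullback.fst u j)).obj F) := isFP_pullback _ _ hF
  obtain ⟨m⟩ := Groth.Agent.PerfB.ApproxMdl.nonempty_mdl (A := A) (f := pullback.snd u j) hFj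
  have := m.lfp
  have := m.qc
  have hN : IsNoetherianRing m.B.1 := by
    have := (Subalgebra.fg_iff_finiteType _).1 m.B.2
    exact Algebra.FiniteType.isNoetherianRing ℤ _
  refine ⟨Spec (CommRingCat.of m.B.1), Groth.Agent.PerfB.ApproxMdl.sa m.B, ConsProp.locusMod P m.h m.G, ?_,
    isInd_of_noetherian (A := CommRingCat.of m.B.1) hP m.h (isCoh_of_isFP m.fp)⟩
  rw [← h1]
  exact locusMod_eq_preimage hP.1 m.pb (isCoh_of_isFP m.fp) m.e.symm

/-- The locus of a constructible property is locally constructible. -/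
theorem isLocallyConstructible_locusMod (hP : ConsProp.IsConsMod P) {X S : Scheme.{u}} (u : X ⟶ S)
    [LocallyOfFinitePresentation u] [QuasiCompact u] [QuasiSeparated u] {F : X.Modules}
    (hF : CohB1.IsFP F) : IsLocallyConstructible (ConsProp.locusMod P u F) :=
  Topo.isLocallyConstructible_of_isInd (isInd_locusMod (isIndConsMod hP) u hF)
    (isInd_locusMod (isIndConsMod_not hP) u hF)

end K285.ModP
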