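import Groth.Agent.CalgA.LimFP
import Groth.Agent.S0591
import Groth.Agent.Flat2D.SpecFGLimit

/-!
# Noetherian models of pairs of finitely presented schemes, and of morphisms between them
-/

set_option autoImplicit false
set_option linter.unusedVariables false
universe u
open CategoryTheory Limits AlgebraicGeometry

namespace K285.Model

open Groth.Agent.CalgA.LimFP

section Limit

variable {I : Type u} [SmallCategory I] {D : I ⥤ Scheme.{u}} {c : Cone D}
  [IsCofiltered I] [∀ (i j : I) (f : i ⟶ j), IsAffineHom (D.map f)] (hc : IsLimit c)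
  [∀ i, CompactSpace (D.obj i)] [∀ i, QuasiSeparatedSpace (D.obj i)]
  {X Y : Scheme.{u}}

attribute [local instance] Mdl.lfp Mdl.qc Mdl.qs

include hc in
theorem exists_mdl (f' : X ⟶ c.pt) [LocallyOfFinitePresentation f'] [QuasiCompact f']
    [QuasiSeparated f'] : ∃ i : I, Nonempty (Mdl f' i) := by
  obtain ⟨i, X₀, f₀, g, h1, h2, h3, h4⟩ := Groth.Agent.S0591.result D c hc X f'
  exact ⟨i, ⟨⟨X₀, f₀, g, h4, h1, h2, h3⟩⟩⟩

include hc in
/-- A pair of finitely presented schemes over the limit comes from a stage. -/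
theorem exists_pair (u : X ⟶ c.pt) (v : Y ⟶ c.pt) [LocallyOfFinitePresentation u] [QuasiCompact u]
    [QuasiSeparated u] [LocallyOfFinitePresentation v] [QuasiCompact v] [QuasiSeparated v] :
    ∃ (i : I) (X₀ Y₀ : Scheme.{u}) (u₀ : X₀ ⟶ D.obj i) (v₀ : Y₀ ⟶ D.obj i) (p : X ⟶ X₀) (q : Y ⟶ Y₀),
      IsPullback p u u₀ (c.π.app i) ∧ IsPullback q v v₀ (c.π.app i) ∧
      LocallyOfFinitePresentation u₀ ∧ QuasiCompact u₀ ∧ QuasiSeparated u₀ ∧
      LocallyOfFinitePresentation v₀ ∧ QuasiCompact v₀ ∧ QuasiSeparated v₀ := by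
  obtain ⟨i1, ⟨N⟩⟩ := exists_mdl hc u
  obtain ⟨i2, ⟨M⟩⟩ := exists_mdl hc v
  let N3 := N.bc (IsCofiltered.minToLeft i1 i2)
  let M3 := M.bc (IsCofiltered.minToRight i1 i2)
  exact ⟨_, _, _, N3.f, M3.f, _, _, N3.h, M3.h, N3.lfp, N3.qc, N3.qs, M3.lfp, M3.qc, M3.qs⟩

include hc in
/-- A morphism of finitely presented schemes over the limit comes from a stage. -/
theorem exists_mor (φ : X ⟶ Y) (g : Y ⟶ c.pt) [LocallyOfFinitePresentation g] [QuasiCompact g]
    [QuasiSeparated g] [LocallyOfFinitePresentation (φ ≫ g)] [QuasiCompact (φ ≫ g)]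
    [QuasiSeparated (φ ≫ g)] :
    ∃ (i : I) (X₀ Y₀ : Scheme.{u}) (φ₀ : X₀ ⟶ Y₀) (g₀ : Y₀ ⟶ D.obj i) (p : X ⟶ X₀) (q : Y ⟶ Y₀),
      IsPullback q g g₀ (c.π.app i) ∧ IsPullback p φ φ₀ q ∧
      LocallyOfFinitePresentation g₀ ∧ QuasiCompact g₀ ∧ QuasiSeparated g₀ ∧
      LocallyOfFinitePresentation (φ₀ ≫ g₀) ∧ QuasiCompact (φ₀ ≫ g₀) ∧ QuasiSeparated (φ₀ ≫ g₀) := by
  obtain ⟨i1, ⟨N⟩⟩ := exists_mdl hc g
  obtain ⟨i2, ⟨M⟩⟩ := exists_mdl hc (φ ≫ g)
  let N3 := N.bc (IsCofiltered.minToLeft i1 i2)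
  let M3 := M.bc (IsCofiltered.minToRight i1 i2)
  obtain ⟨i4, a4, ⟨v4⟩⟩ := M3.exists_hom hc N3 φ rfl
  refine ⟨i4, _, _, v4.φ, (N3.bc a4).f, _, _, (N3.bc a4).h, v4.isPullback, inferInstance, inferInstance,
    inferInstance, ?_, ?_, ?_⟩
  · rw [v4.w]; infer_instance
  · rw [v4.w]; infer_instance
  · rw [v4.w]; infer_instance

end Limit

section Spec

open Groth.Agent.Flat2D.SpecFGLimit

theorem isNoetherianRing_of_fg {A : Type u} [CommRing A] (S : Subalgebra ℤ A) (hS : S.FG) :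
    IsNoetherianRing S := by
  have := (Subalgebra.fg_iff_finiteType _).1 hS
  exact Algebra.FiniteType.isNoetherianRing ℤ _

variable (A : CommRingCat.{u}) {X Y : Scheme.{u}}

/-- Noetherian model of a morphism of finitely presented schemes over an affine base. -/
theorem exists_mor_Spec (φ : X ⟶ Y) (g : Y ⟶ Spec A) [LocallyOfFinitePresentation g] [QuasiCompact g]
    [QuasiSeparated g] [LocallyOfFinitePresentation (φ ≫ g)] [QuasiCompact (φ ≫ g)]
    [QuasiSeparated (φ ≫ g)] :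
    ∃ (A₀ : CommRingCat.{u}) (_ : IsNoetherianRing A₀) (t : Spec A ⟶ Spec A₀) (X₀ Y₀ : Scheme.{u})
      (φ₀ : X₀ ⟶ Y₀) (g₀ : Y₀ ⟶ Spec A₀) (p : X ⟶ X₀) (q : Y ⟶ Y₀),
      IsPullback q g g₀ t ∧ IsPullback p φ φ₀ q ∧
      LocallyOfFinitePresentation g₀ ∧ QuasiCompact g₀ ∧ QuasiSeparated g₀ ∧
      LocallyOfFinitePresentation (φ₀ ≫ g₀) ∧ QuasiCompact (φ₀ ≫ g₀) ∧ QuasiSeparated (φ₀ ≫ g₀) := by
  have i1 : ∀ i, CompactSpace ((specDiagram A).obj i) := fun i => inferInstance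
  have i2 : ∀ i, QuasiSeparatedSpace ((specDiagram A).obj i) := fun i => inferInstance
  have i3 : LocallyOfFinitePresentation (Y := (specCone A).pt) g := ‹_›
  have i4 : QuasiCompact (Y := (specCone A).pt) g := ‹_›
  have i5 : QuasiSeparated (Y := (specCone A).pt) g := ‹_›
  have i6 : LocallyOfFinitePresentation (Y := (specCone A).pt) (φ ≫ g) := ‹_›
  have i7 : QuasiCompact (Y := (specCone A).pt) (φ ≫ g) := ‹_›
  have i8 : QuasiSeparated (Y := (specCone A).pt) (φ ≫ g) := ‹_›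
  obtain ⟨i, X₀, Y₀, φ₀, g₀, p, q, h⟩ := exists_mor
    (D := specDiagram A) (c := specCone A) (isLimitSpecCone A) φ g
  exact ⟨CommRingCat.of i.unop.1, isNoetherianRing_of_fg _ i.unop.2, (specCone A).π.app i, X₀, Y₀, φ₀,
    g₀, p, q, h⟩

/-- Noetherian model of a pair of finitely presented schemes over an affine base. -/
theorem exists_pair_Spec (u : X ⟶ Spec A) (v : Y ⟶ Spec A) [LocallyOfFinitePresentation u]
    [QuasiCompact u] [QuasiSeparated u] [LocallyOfFinitePresentation v] [QuasiCompact v]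
    [QuasiSeparated v] :
    ∃ (A₀ : CommRingCat.{u}) (_ : IsNoetherianRing A₀) (t : Spec A ⟶ Spec A₀) (X₀ Y₀ : Scheme.{u})
      (u₀ : X₀ ⟶ Spec A₀) (v₀ : Y₀ ⟶ Spec A₀) (p : X ⟶ X₀) (q : Y ⟶ Y₀),
      IsPullback p u u₀ t ∧ IsPullback q v v₀ t ∧
      LocallyOfFinitePresentation u₀ ∧ QuasiCompact u₀ ∧ QuasiSeparated u₀ ∧
      LocallyOfFinitePresentation v₀ ∧ QuasiCompact v₀ ∧ QuasiSeparated v₀ := by
  have i1 : ∀ i, CompactSpace ((specDiagram A).obj i) := fun i => inferInstance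
  have i2 : ∀ i, QuasiSeparatedSpace ((specDiagram A).obj i) := fun i => inferInstance
  have i3 : LocallyOfFinitePresentation (Y := (specCone A).pt) u := ‹_›
  have i4 : QuasiCompact (Y := (specCone A).pt) u := ‹_›
  have i5 : QuasiSeparated (Y := (specCone A).pt) u := ‹_›
  have i6 : LocallyOfFinitePresentation (Y := (specCone A).pt) v := ‹_›
  have i7 : QuasiCompact (Y := (specCone A).pt) v := ‹_›
  have i8 : QuasiSeparated (Y := (specCone A).pt) v := ‹_›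
  obtain ⟨i, X₀, Y₀, u₀, v₀, p, q, h⟩ := exists_pair
    (D := specDiagram A) (c := specCone A) (isLimitSpecCone A) u v
  exact ⟨CommRingCat.of i.unop.1, isNoetherianRing_of_fg _ i.unop.2, (specCone A).π.app i, X₀, Y₀, u₀,
    v₀, p, q, h⟩

end Spec

end K285.Model
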