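import Groth.Agent.Ega43.Locus
import Groth.Agent.ConsProp.K285.Elem
import Groth.Agent.ConsProp.K285.Topo
import Groth.Agent.ConsProp.K285.Model
import Groth.Prelude.Def_EGA4Misc

/-!
# (Ind-)constructible properties of morphisms: base change and the main theorem
-/

set_option autoImplicit false
set_option linter.unusedVariables false
universe u
open CategoryTheory AlgebraicGeometry CategoryTheory.Limits Topology

namespace K285.Mor

open Groth.Agent.Ega43.Locus Groth.Agent.Ega43.LocusAff

variable {P : ∀ ⦃X Y T : Scheme.{u}⦄, (X ⟶ Y) → (Y ⟶ T) → Prop}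

theorem mem_locusMor_iff {X Y S : Scheme.{u}} (f : X ⟶ Y) (g : Y ⟶ S) (s : S) :
    s ∈ ConsProp.locusMor P f g ↔
      P (bcMap f g (S.fromSpecResidueField s)) (pullback.snd g (S.fromSpecResidueField s)) := Iff.rfl

/-- The locus of a base change is the preimage of the locus. -/
theorem locusMor_eq_preimage (hP : ConsProp.IsFieldStableMor P) {X Y S X' Y' T : Scheme.{u}}
    {f : X ⟶ Y} {g : Y ⟶ S} [LocallyOfFiniteType g] [QuasiCompact g] [LocallyOfFiniteType (f ≫ g)]
    [QuasiCompact (f ≫ g)] {f' : X' ⟶ Y'} {g' : Y' ⟶ T} {t : T ⟶ S} {qX : X' ⟶ X} {qY : Y' ⟶ Y}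
    (hY : IsPullback qY g' g t) (hX : IsPullback qX f' f qY) :
    ConsProp.locusMor P f' g' = t ⁻¹' (ConsProp.locusMor P f g) := by
  ext x
  let k := S.fromSpecResidueField (t x)
  have h1 : IsPullback (pullback.fst g' (T.fromSpecResidueField x) ≫ qY)
      (pullback.snd g' (T.fromSpecResidueField x)) g
      (Spec.map (t.residueFieldMap x) ≫ k) := by
    rw [Scheme.Hom.SpecMap_residueFieldMap_fromSpecResidueField]
    exact (IsPullback.of_hasPullback g' (T.fromSpecResidueField x)).paste_horiz hY
  have h2 : IsPullback (pullback.fst (f' ≫ g') (T.fromSpecResidueField x) ≫ qX)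
      (bcMap f' g' (T.fromSpecResidueField x)) f
      (pullback.fst g' (T.fromSpecResidueField x) ≫ qY) :=
    (isPullback_bcMap f' g' (T.fromSpecResidueField x)).paste_horiz hX
  obtain ⟨w, v, -, -, h3, h4⟩ := exists_comparison h1 h2
  have e1 : bcMap f g k ≫ pullback.snd g k = pullback.snd (f ≫ g) k := pullback.lift_snd _ _ _
  have i1 : LocallyOfFiniteType (bcMap f g k ≫ pullback.snd g k) := by rw [e1]; infer_instance
  have i2 : QuasiCompact (bcMap f g k ≫ pullback.snd g k) := by rw [e1]; infer_instance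
  exact (hP (bcMap f g k) (pullback.snd g k) (bcMap f' g' (T.fromSpecResidueField x))
    (pullback.snd g' (T.fromSpecResidueField x)) v w (Spec.map (t.residueFieldMap x)) h3.flip h4).symm

/-- Negation of a field stable property. -/
theorem isFieldStableMor_not (hP : ConsProp.IsFieldStableMor P) :
    ConsProp.IsFieldStableMor (fun X Y T f g => ¬ P f g) :=
  fun X X' Y Y' T T' f g f' g' eX eY h _ _ _ _ _ _ _ _ hY hX =>
    not_congr (hP f g f' g' eX eY h hY hX)

theorem isIndConsMor (hP : ConsProp.IsConsMor P) : ConsProp.IsIndConsMor P :=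
  ⟨hP.1, fun X Y S f g _ _ _ _ _ _ h => Topo.interior_nonempty_of_or (hP.2 f g) h⟩

theorem isIndConsMor_not (hP : ConsProp.IsConsMor P) :
    ConsProp.IsIndConsMor (fun X Y T f g => ¬ P f g) :=
  ⟨isFieldStableMor_not hP.1, fun X Y S f g _ _ _ _ _ _ h =>
    Topo.interior_nonempty_of_or (E := (ConsProp.locusMor P f g)ᶜ)
      (by rw [compl_compl]; exact (hP.2 f g).symm) h⟩

/-- Over a Noetherian affine base. -/
theorem isInd_of_noetherian (hP : ConsProp.IsIndConsMor P) {A : CommRingCat.{u}} [IsNoetherianRing A]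
    {X Y : Scheme.{u}} (f : X ⟶ Y) (g : Y ⟶ Spec A) [LocallyOfFiniteType g] [QuasiCompact g]
    [LocallyOfFiniteType (f ≫ g)] [QuasiCompact (f ≫ g)] :
    ProCons.IsIndConstructible (ConsProp.locusMor P f g) := by
  refine Topo.isInd_of_noetherian _ fun T i _ _ _ hgp => ?_
  have h1 := locusMor_eq_preimage hP.1 (IsPullback.of_hasPullback g i) (isPullback_bcMap f g i)
  rw [← h1] at hgp ⊢
  have e1 : bcMap f g i ≫ pullback.snd g i = pullback.snd (f ≫ g) i := pullback.lift_snd _ _ _
  have i1 : LocallyOfFiniteType (bcMap f g i ≫ pullback.snd g i) := by rw [e1]; infer_instance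
  have i2 : QuasiCompact (bcMap f g i ≫ pullback.snd g i) := by rw [e1]; infer_instance
  exact hP.2 _ _ hgp

/-- The locus of an ind-constructible property of morphisms is ind-constructible. -/
theorem isInd_locusMor (hP : ConsProp.IsIndConsMor P) {X Y S : Scheme.{u}} (f : X ⟶ Y) (g : Y ⟶ S)
    [LocallyOfFinitePresentation g] [QuasiCompact g] [QuasiSeparated g]
    [LocallyOfFinitePresentation (f ≫ g)] [QuasiCompact (f ≫ g)] [QuasiSeparated (f ≫ g)] :
    ProCons.IsIndConstructible (ConsProp.locusMor P f g) := by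
  refine Topo.isInd_of_approx _ fun A j _ => ?_
  have h1 := locusMor_eq_preimage hP.1 (IsPullback.of_hasPullback g j) (isPullback_bcMap f g j)
  have e1 : bcMap f g j ≫ pullback.snd g j = pullback.snd (f ≫ g) j := pullback.lift_snd _ _ _
  have i1 : LocallyOfFinitePresentation (bcMap f g j ≫ pullback.snd g j) := by rw [e1]; infer_instance
  have i2 : QuasiCompact (bcMap f g j ≫ pullback.snd g j) := by rw [e1]; infer_instance
  have i3 : QuasiSeparated (bcMap f g j ≫ pullback.snd g j) := by rw [e1]; infer_instance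
  obtain ⟨A₀, _, t, X₀, Y₀, φ₀, g₀, p, q, h2, h3, h4, h5, h6, h7, h8, h9⟩ :=
    Model.exists_mor_Spec A (bcMap f g j) (pullback.snd g j)
  refine ⟨Spec A₀, t, ConsProp.locusMor P φ₀ g₀, ?_, isInd_of_noetherian hP φ₀ g₀⟩
  rw [← h1]
  exact locusMor_eq_preimage hP.1 h2 h3

/-- The locus of a constructible property of morphisms is locally constructible. -/
theorem isLocallyConstructible_locusMor (hP : ConsProp.IsConsMor P) {X Y S : Scheme.{u}} (f : X ⟶ Y)
    (g : Y ⟶ S) [LocallyOfFinitePresentation g] [QuasiCompact g] [QuasiSeparated g]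
    [LocallyOfFinitePresentation (f ≫ g)] [QuasiCompact (f ≫ g)] [QuasiSeparated (f ≫ g)] :
    IsLocallyConstructible (ConsProp.locusMor P f g) :=
  Topo.isLocallyConstructible_of_isInd (isInd_locusMor (isIndConsMor hP) f g)
    (isInd_locusMor (isIndConsMor_not hP) f g)

end K285.Mor
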