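import Groth.Agent.ConsProp.K285.Mor
import Groth.Agent.Ega43.LocusElem
import Groth.Agent.S3398
import Mathlib.AlgebraicGeometry.Artinian

/-!
# (Ind-)constructible properties of algebraic schemes: base change, main theorem, and the derived property of morphisms
"all fibres satisfy `P`"
-/

set_option autoImplicit false
set_option linter.unusedVariables false
universe u
open CategoryTheory AlgebraicGeometry CategoryTheory.Limits Topology

namespace K285.Plain

open Groth.Agent.Ega43.Locus Groth.Agent.Ega43.LocusAff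

variable {P : ∀ ⦃Y T : Scheme.{u}⦄, (Y ⟶ T) → Prop}

/-- The property of morphisms `P(Y)`. -/
def tgt (P : ∀ ⦃Y T : Scheme.{u}⦄, (Y ⟶ T) → Prop) :
    ∀ ⦃X Y T : Scheme.{u}⦄, (X ⟶ Y) → (Y ⟶ T) → Prop :=
  fun X Y T f g => P g

theorem locusMor_tgt {X Y S : Scheme.{u}} (f : X ⟶ Y) (g : Y ⟶ S) :
    ConsProp.locusMor (tgt P) f g = ConsProp.locus P g := rfl

theorem isFieldStableMor_tgt (hP : ConsProp.IsFieldStable P) : ConsProp.IsFieldStableMor (tgt P) :=
  fun X X' Y Y' T T' f g f' g' eX eY h _ _ _ _ _ _ _ _ hY hX => hP g g' eY h hY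

theorem isIndConsMor_tgt (hP : ConsProp.IsIndCons P) : ConsProp.IsIndConsMor (tgt P) :=
  ⟨isFieldStableMor_tgt hP.1, fun X Y S f g _ _ _ _ _ _ h => hP.2 g h⟩

theorem isConsMor_tgt (hP : ConsProp.IsCons P) : ConsProp.IsConsMor (tgt P) :=
  ⟨isFieldStableMor_tgt hP.1, fun X Y S f g _ _ _ _ _ _ => hP.2 g⟩

/-- The locus of a base change is the preimage of the locus. -/
theorem locus_eq_preimage (hP : ConsProp.IsFieldStable P) {X S X' T : Scheme.{u}}
    {u : X ⟶ S} [LocallyOfFiniteType u] [QuasiCompact u] {v : X' ⟶ T} {t : T ⟶ S} {q : X' ⟶ X}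
    (h : IsPullback q v u t) : ConsProp.locus P v = t ⁻¹' (ConsProp.locus P u) := by
  have i1 : LocallyOfFiniteType (𝟙 X ≫ u) := by rw [Category.id_comp]; infer_instance
  have i2 : QuasiCompact (𝟙 X ≫ u) := by rw [Category.id_comp]; infer_instance
  have h2 : IsPullback q (𝟙 X') (𝟙 X) q := IsPullback.of_vert_isIso ⟨by simp⟩
  exact Mor.locusMor_eq_preimage (isFieldStableMor_tgt hP) (f := 𝟙 X) (f' := 𝟙 X') h h2

/-- The locus of an ind-constructible property is ind-constructible. -/
theorem isInd_locus (hP : ConsProp.IsIndCons P) {X S : Scheme.{u}} (u : X ⟶ S)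
    [LocallyOfFinitePresentation u] [QuasiCompact u] [QuasiSeparated u] :
    ProCons.IsIndConstructible (ConsProp.locus P u) := by
  have i1 : LocallyOfFinitePresentation (𝟙 X ≫ u) := by rw [Category.id_comp]; infer_instance
  have i2 : QuasiCompact (𝟙 X ≫ u) := by rw [Category.id_comp]; infer_instance
  have i3 : QuasiSeparated (𝟙 X ≫ u) := by rw [Category.id_comp]; infer_instance
  exact Mor.isInd_locusMor (isIndConsMor_tgt hP) (𝟙 X) u

/-- The locus of a constructible property is locally constructible. -/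
theorem isLocallyConstructible_locus (hP : ConsProp.IsCons P) {X S : Scheme.{u}} (u : X ⟶ S)
    [LocallyOfFinitePresentation u] [QuasiCompact u] [QuasiSeparated u] :
    IsLocallyConstructible (ConsProp.locus P u) := by
  have i1 : LocallyOfFinitePresentation (𝟙 X ≫ u) := by rw [Category.id_comp]; infer_instance
  have i2 : QuasiCompact (𝟙 X ≫ u) := by rw [Category.id_comp]; infer_instance
  have i3 : QuasiSeparated (𝟙 X ≫ u) := by rw [Category.id_comp]; infer_instance
  exact Mor.isLocallyConstructible_locusMor (isConsMor_tgt hP) (𝟙 X) u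

section AllFibres

/-- The property of morphisms "all fibres satisfy `P`". -/
def all (P : ∀ ⦃Y T : Scheme.{u}⦄, (Y ⟶ T) → Prop) :
    ∀ ⦃X Y T : Scheme.{u}⦄, (X ⟶ Y) → (Y ⟶ T) → Prop :=
  fun X Y T f g => ∀ y : ↥Y, P (f.fiberToSpecResidueField y)

theorem all_iff {X Y T : Scheme.{u}} (f : X ⟶ Y) (g : Y ⟶ T) :
    all P f g ↔ ∀ y : Y, y ∈ ConsProp.locus P f := Iff.rfl

theorem isFieldStableMor_all (hP : ConsProp.IsFieldStable P) : ConsProp.IsFieldStableMor (all P) := by
  intro X X' Y Y' T T' f g f' g' eX eY h _ _ _ _ _ _ _ _ hY hX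
  have hf : FP f := (Elem.fp_of_isLocallyNoetherian (f ≫ g)).of_comp (Elem.fp_of_isLocallyNoetherian g)
  have := hf.lfp; have := hf.qc
  have h1 : Surjective h := inferInstance
  have h2 : Surjective eY := MorphismProperty.of_isPullback hY.flip h1
  rw [all_iff, all_iff, locus_eq_preimage hP hX]
  constructor
  · intro H y'
    exact H (eY y')
  · intro H y
    obtain ⟨y', rfl⟩ := eY.surjective y
    exact H y'

theorem locusMor_all (hP : ConsProp.IsFieldStable P) {X Y S : Scheme.{u}} (f : X ⟶ Y) (g : Y ⟶ S)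
    [LocallyOfFiniteType f] [QuasiCompact f] :
    ConsProp.locusMor (all P) f g = (g '' (ConsProp.locus P f)ᶜ)ᶜ := by
  ext s
  let k := S.fromSpecResidueField s
  have h1 := locus_eq_preimage hP (isPullback_bcMap f g k)
  have h2 : s ∈ ConsProp.locusMor (all P) f g ↔
      ∀ y : ↥(pullback g k), y ∈ ConsProp.locus P (bcMap f g k) := Iff.rfl
  rw [h2, h1]
  constructor
  · rintro H ⟨y, hy, hys⟩
    have h3 : y ∈ Set.range (pullback.fst g k) := by
      rw [Scheme.Pullback.range_fst, Scheme.range_fromSpecResidueField]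
      exact hys
    obtain ⟨z, rfl⟩ := h3
    exact hy (H z)
  · intro H z
    by_contra hz
    refine H ⟨pullback.fst g k z, hz, ?_⟩
    have h3 : pullback.fst g k z ∈ Set.range (pullback.fst g k) := ⟨z, rfl⟩
    rw [Scheme.Pullback.range_fst, Scheme.range_fromSpecResidueField] at h3
    exact h3

/-- If `P` is ind-constructible then so is the property "all fibres satisfy `P`". -/
theorem isIndConsMor_all (hP : ConsProp.IsIndCons P) : ConsProp.IsIndConsMor (all P) := by
  refine ⟨isFieldStableMor_all hP.1, ?_⟩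
  intro X Y S f g _ _ _ _ _ _ hgp
  have hf : FP f := (Elem.fp_of_isLocallyNoetherian (f ≫ g)).of_comp (Elem.fp_of_isLocallyNoetherian g)
  have := hf.lfp; have := hf.qc; have := hf.qs
  rw [locusMor_all hP.1] at hgp ⊢
  refine Elem.interior_nonempty_of_mem ?_ hgp
  have h1 := isInd_locus hP f
  have h2 := Groth.Agent.Ega4fib.H121.ProConsBasic.isProConstructible_compl_iff.2 h1
  have h3 := Groth.Agent.S3398.result g _ h2
  exact Groth.Agent.Ega4fib.H121.ProConsBasic.isIndConstructible_compl_iff.2 h3

/-- If `P` is constructible then so is the property "all fibres satisfy `P`". -/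
theorem isConsMor_all (hP : ConsProp.IsCons P) : ConsProp.IsConsMor (all P) := by
  refine ⟨isFieldStableMor_all hP.1, ?_⟩
  intro X Y S f g _ _ _ _ _ _
  have hf : FP f := (Elem.fp_of_isLocallyNoetherian (f ≫ g)).of_comp (Elem.fp_of_isLocallyNoetherian g)
  have := hf.lfp; have := hf.qc; have := hf.qs
  have hg := Elem.fp_of_isLocallyNoetherian g
  have := hg.lfp
  rw [locusMor_all hP.1]
  refine Elem.interior_nonempty_or ?_
  have h1 := isLocallyConstructible_locus hP f
  exact Groth.Agent.Ega43.LocusElem.isLocallyConstructible_compl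
    (g.isLocallyConstructible_image (Groth.Agent.Ega43.LocusElem.isLocallyConstructible_compl h1))

end AllFibres

end K285.Plain
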